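import Cfsg.Agent.Lib.Coprime.EqC2
import Cfsg.Agent.Lib.BS.Higman1
import Cfsg.Agent.Lib.PGrp.Extra
import Cfsg.Agent.Lib.BG1.Sec1

/-!
# Two-constrained groups of sectional rank four: tools
-/

set_option autoImplicit false
set_option linter.unusedSectionVars false

namespace Cfsg.Lib.SR4

open Subgroup Cfsg.Lib.Core Cfsg.Lib.Amalg Cfsg.Lib.BG1 Cfsg.Lib.BS
open scoped commutatorElement

/-- elementary abelian sections have order at most `16` -/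
def Sec (G : Type*) [Group G] : Prop :=
  ∀ H D : Subgroup G, D ≤ H → H ≤ 𝐍(D) → (∀ h ∈ H, h * h ∈ D) → D.relIndex H ≤ 16

variable {G : Type*} [Group G] [Finite G]

theorem sec_of (h : SectionalPRankLE 2 4 G) : Sec G := fun H D h1 h2 h3 => by
  have : (D.subgroupOf H).Normal := (normal_subgroupOf_iff_le_normalizer h1).2 h2
  have a1 : ∀ x : H ⧸ D.subgroupOf H, x ^ 2 = 1 := fun x => by
    obtain ⟨x, rfl⟩ := QuotientGroup.mk_surjective x
    rw [← QuotientGroup.mk_pow, QuotientGroup.eq_one_iff, sq]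
    exact h3 x x.2
  have a2 := h H (D.subgroupOf H) ⊤ ⟨⟨fun a b => Subtype.ext
    (Commute.of_orderOf_dvd_two (fun x => orderOf_dvd_of_pow_eq_one (a1 x)) a.1 b.1)⟩⟩ fun a _ => a1 a
  rwa [card_top] at a2

theorem Sec.quot (h : Sec G) (N : Subgroup G) [N.Normal] : Sec (G ⧸ N) := fun H D h1 h2 h3 => by
  rw [← relIndex_comap_comap_of_surjective (QuotientGroup.mk'_surjective N)]
  exact h _ _ (comap_mono h1) ((comap_mono h2).trans (le_normalizer_comap _)) fun x hx => by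
    rw [mem_comap, map_mul]; exact h3 _ hx

theorem Sec.sub (h : Sec G) (Y : Subgroup G) : Sec Y := fun H D h1 h2 h3 => by
  rw [← relIndex_map_map_of_injective _ _ Y.subtype_injective]
  refine h _ _ (map_mono h1) ((map_mono h2).trans (le_normalizer_map _)) ?_
  rintro _ ⟨x, hx, rfl⟩
  exact ⟨x * x, h3 x hx, rfl⟩

theorem Sec.card_le (h : Sec G) {H : Subgroup G} (h3 : ∀ x ∈ H, x * x = 1) : Nat.card H ≤ 16 := by
  simpa using h H ⊥ bot_le le_normalizer_of_normal h3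

theorem cent_zpowers {x : G} : 𝐂(zpowers x) = 𝐂[x] := by
  rw [zpowers_eq_closure, centralizer_closure]

theorem card_modEq {q : ℕ} [Fact q.Prime] {x : G} (hx : orderOf x = q) {W : Subgroup G} (hn : x ∈ 𝐍(W)) :
    Nat.card W ≡ Nat.card ↥(W ⊓ 𝐂[x]) [MOD q] :=
  cent_zpowers (x := x) ▸ PGrp.card_modEq_card_inf_centralizer
    (Amalg.isPGroup_zpowers_of_orderOf (k := 1) (hx.trans (pow_one q).symm)) (zpowers_le.2 hn)

theorem pow_cases {W : Subgroup G} (hW : IsPGroup 2 W) {x : G} (hc : x ∉ 𝐂(W)) :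
    ∃ k j, j < k ∧ Nat.card W = 2 ^ k ∧ Nat.card ↥(W ⊓ 𝐂[x]) = 2 ^ j := by
  obtain ⟨k, hk⟩ := hW.exists_card_eq
  obtain ⟨j, hj⟩ := (hW.to_le (inf_le_left : W ⊓ 𝐂[x] ≤ W)).exists_card_eq
  refine ⟨k, j, ?_, hk, hj⟩
  by_contra! h
  exact hc fun w hw => mem_centralizer_singleton_iff.1 ((eq_of_le_of_card_ge (inf_le_left : W ⊓ 𝐂[x] ≤ W) (by
    rw [hk, hj]; exact Nat.pow_le_pow_right two_pos h)).ge hw).2

theorem five {W : Subgroup G} (hW : IsPGroup 2 W) (h16 : Nat.card W ≤ 16) {f : G} (hf : orderOf f = 5) (hn : f ∈ 𝐍(W))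
    (hc : f ∉ 𝐂(W)) : Nat.card W = 16 ∧ W ⊓ 𝐂[f] = ⊥ := by
  have : Fact (Nat.Prime 5) := ⟨Nat.prime_five⟩
  obtain ⟨k, j, h1, h2, h3⟩ := pow_cases hW hc
  have h4 := card_modEq hf hn
  rw [h2] at h16
  have h5 : k ≤ 4 := (Nat.pow_le_pow_iff_right one_lt_two).1 h16
  rw [h2, h3] at h4
  rw [← card_eq_one, h2, h3]
  interval_cases k <;> interval_cases j <;> first | exact ⟨rfl, rfl⟩ | exact absurd h4 (by decide)

theorem sqg_map {G' : Type*} [Group G'] (φ : G →* G') (A : Subgroup G) : (sqg A).map φ = sqg (A.map φ) := by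
  rw [sqg, sqg, MonoidHom.map_closure, coe_map, Set.image_image, Set.image_image]
  simp only [map_mul]

instance sqg_normal (Q : Subgroup G) [Q.Normal] : (sqg Q).Normal :=
  normalizer_eq_top_iff.1 (top_le_iff.1 (norm_sqg (by simp [normalizer_eq_top])))

theorem cent_of_comm_le {Q : Subgroup G} (hQ : IsPGroup 2 Q) {x : G} (hn : x ∈ 𝐍(Q)) (ho : Odd (orderOf x))
    (h : ∀ y ∈ Q, y⁻¹ * (x * y * x⁻¹) ∈ sqg Q) : x ∈ 𝐂(Q) := by
  obtain ⟨k, hk⟩ := hQ.exists_card_eq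
  have a1 := coprime_cent_prod (A := zpowers x) (K := Q) (zpowers_le.2 hn) (by
    rw [Nat.card_zpowers, hk]; exact (Nat.coprime_two_right.2 ho).pow_right k) (Or.inl inferInstance)
  have a2 : ⁅Q, zpowers x⁆ ≤ sqg Q := by
    have b1 : zpowers x ≤ 𝐍(sqg Q) := norm_sqg (zpowers_le.2 hn)
    have b2 : Q ≤ 𝐍(sqg Q) := norm_sqg le_normalizer
    let K : Subgroup G :=
      { carrier := {a | a ∈ zpowers x ∧ ∀ y ∈ Q, y⁻¹ * (a * y * a⁻¹) ∈ sqg Q}
        one_mem' := ⟨one_mem _, fun y _ => by simp⟩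
        mul_mem' := fun {a b} ha hb => ⟨mul_mem ha.1 hb.1, fun y hy => by
          have := mul_mem (ha.2 y hy) ((mem_normalizer_iff.1 (b1 ha.1) _).1 (hb.2 y hy))
          convert this using 1
          group⟩
        inv_mem' := fun {a} ha => ⟨inv_mem ha.1, fun y hy => by
          have := inv_mem ((mem_normalizer_iff.1 (b1 (inv_mem ha.1)) _).1 (ha.2 y hy))
          convert this using 1
          group⟩ }
    have b3 : zpowers x ≤ K := zpowers_le.2 ⟨mem_zpowers x, h⟩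
    refine commutator_le.2 fun y hy a ha => ?_
    have := (b3 ha).2 y⁻¹ (inv_mem hy)
    simpa [commutatorElement_def, mul_assoc] using this
  have a3 := eq_of_sup_sqg hQ (B := Q ⊓ 𝐂(zpowers x)) inf_le_left (a1.ge.trans (sup_le (a2.trans le_sup_right) le_sup_left))
  exact fun y hy => ((a3.ge hy).2 x (mem_zpowers x)).symm

theorem orderOf_mk {N : Subgroup G} [N.Normal] (hN : IsPGroup 2 N) {q : ℕ} (hq : q.Prime) (h2 : q ≠ 2) {x : G}
    (hx : orderOf x = q) : orderOf (x : G ⧸ N) = q := by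
  have := Fact.mk hq
  refine orderOf_eq_prime (by rw [← QuotientGroup.mk_pow, ← hx, pow_orderOf_eq_one, QuotientGroup.mk_one]) fun e => ?_
  obtain ⟨k, hk⟩ := hN.exists_card_eq
  have := N.orderOf_dvd_natCard ((QuotientGroup.eq_one_iff x).1 e)
  rw [hx, hk] at this
  exact h2 ((Nat.prime_dvd_prime_iff_eq hq Nat.prime_two).1 (hq.dvd_of_dvd_pow this))

theorem not_mem_of_odd {N : Subgroup G} (hN : IsPGroup 2 N) {q : ℕ} (hq : q.Prime) (h2 : q ≠ 2) {x : G}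
    (hx : orderOf x = q) : x ∉ N := fun e => by
  obtain ⟨k, hk⟩ := hN.exists_card_eq
  have := N.orderOf_dvd_natCard e
  rw [hx, hk] at this
  exact h2 ((Nat.prime_dvd_prime_iff_eq hq Nat.prime_two).1 (hq.dvd_of_dvd_pow this))

/-- the map `w ↦ w⁻¹ t w t⁻¹` on an abelian subgroup -/
def dl {W : Subgroup G} (hc : IsMulCommutative W) {t : G} (hn : t ∈ 𝐍(W)) : W →* G :=
  MonoidHom.mk' (fun w => (w : G)⁻¹ * (t * w * t⁻¹)) fun a b => by
    have := PGrp.isMulCommutative_iff_forall.1 hc _ (inv_mem b.2) _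
      (mul_mem (inv_mem a.2) ((mem_normalizer_iff.1 hn a).1 a.2))
    simp only [coe_mul]
    calc (↑a * ↑b)⁻¹ * (t * (↑a * ↑b) * t⁻¹) = (b : G)⁻¹ * ((a : G)⁻¹ * (t * a * t⁻¹)) * (t * b * t⁻¹) := by group
      _ = _ := by rw [this]; group

theorem dl_facts {W : Subgroup G} (hW : IsElementaryAbelian 2 W) {t : G} (hn : t ∈ 𝐍(W)) (h2 : t * t ∈ 𝐂(W)) :
    (dl hW.1 hn).range ≤ W ⊓ 𝐂[t] ∧ Nat.card (dl hW.1 hn).range * Nat.card ↥(W ⊓ 𝐂[t]) = Nat.card W := by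
  refine ⟨?_, ?_⟩
  · rintro _ ⟨w, rfl⟩
    have a1 : t * w * t⁻¹ ∈ W := (mem_normalizer_iff.1 hn w).1 w.2
    refine mem_inf.2 ⟨mul_mem (inv_mem w.2) a1, mem_centralizer_singleton_iff.2 ?_⟩
    have a2 : ∀ v ∈ W, v⁻¹ = v := fun v hv => inv_eq_of_mul_eq_one_right (by simpa [sq] using hW.2 v hv)
    have a3 := h2 w w.2
    have a4 := PGrp.isMulCommutative_iff_forall.1 hW.1 _ w.2 _ a1
    show (w : G)⁻¹ * (t * w * t⁻¹) * t = t * ((w : G)⁻¹ * (t * w * t⁻¹))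
    rw [a2 _ w.2]
    calc (w : G) * (t * w * t⁻¹) * t = (t * w * t⁻¹) * (w * (t * t)) * t⁻¹ := by rw [a4]; group
      _ = _ := by rw [a3]; group
  · rw [← index_ker, mul_comm, ← (dl hW.1 hn).ker.card_mul_index]
    congr 1
    rw [← card_map_of_injective W.subtype_injective (K := (dl hW.1 hn).ker)]
    congr 2
    ext x
    constructor
    · rintro ⟨h1, h2⟩
      refine ⟨⟨x, h1⟩, ?_, rfl⟩
      show x⁻¹ * (t * x * t⁻¹) = 1
      rw [← mem_centralizer_singleton_iff.1 h2]; group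
    · rintro ⟨w, hw, rfl⟩
      exact mem_inf.2 ⟨w.2, mem_centralizer_singleton_iff.2 (eq_mul_inv_iff_mul_eq.1 (inv_mul_eq_one.1 hw))⟩

theorem free_inv {W : Subgroup G} (hW : IsElementaryAbelian 2 W) (h16 : Nat.card W = 16) {t f : G} (ht : t ∈ 𝐍(W))
    (hf : f ∈ 𝐍(W)) (h1 : t * t ∈ 𝐂(W)) (h2 : t * f * (t * f) ∈ 𝐂(W)) (h3 : W ⊓ 𝐂[f] = ⊥) :
    Nat.card ↥(W ⊓ 𝐂[t]) = 4 ∧ ∀ w ∈ W ⊓ 𝐂[t], ∃ u ∈ W, u⁻¹ * (t * u * t⁻¹) = w := by
  obtain ⟨a1, a2⟩ := dl_facts hW ht h1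
  obtain ⟨b1, b2⟩ := dl_facts hW (mul_mem ht hf) h2
  have a3 := card_le_of_le a1
  have b3 := card_le_of_le b1
  have c1 : (W ⊓ 𝐂[t]) ⊓ (W ⊓ 𝐂[t * f]) = ⊥ := eq_bot_iff.2 fun x hx => h3.le (mem_inf.2 ⟨hx.1.1, by
    have d1 := mem_centralizer_singleton_iff.1 hx.1.2
    have d2 := mem_centralizer_singleton_iff.1 hx.2.2
    rw [← mul_assoc, d1, mul_assoc, mul_assoc, mul_right_inj] at d2
    exact mem_centralizer_singleton_iff.2 d2⟩)
  have c2 := Core.card_sup_of_disjoint (H := W ⊓ 𝐂[t]) (K := W ⊓ 𝐂[t * f]) (fun x hx => centralizer_le_normalizer _ fun y hy =>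
    PGrp.isMulCommutative_iff_forall.1 hW.1 y hy.1 x hx.1) c1
  have c3 := card_le_of_le (sup_le inf_le_left inf_le_left : (W ⊓ 𝐂[t]) ⊔ (W ⊓ 𝐂[t * f]) ≤ W)
  rw [c2, h16] at c3
  rw [h16] at a2 b2
  have c4 : 4 ≤ Nat.card ↥(W ⊓ 𝐂[t]) := by nlinarith
  have c5 : 4 ≤ Nat.card ↥(W ⊓ 𝐂[t * f]) := by nlinarith
  have c6 : Nat.card ↥(W ⊓ 𝐂[t]) = 4 := by nlinarith
  refine ⟨c6, fun w hw => ?_⟩
  obtain ⟨u, hu⟩ := (eq_of_le_of_card_ge a1 (by rw [c6] at a2 ⊢; omega)).ge hw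
  exact ⟨u, u.2, hu⟩

theorem cnt {q : ℕ} [Fact q.Prime] {a : G} (ha : orderOf a = q) {Q : Subgroup G} (hn : a ∈ 𝐍(Q)) :
    Nat.card {x : G // x ∈ Q ∧ x ^ 2 = 1} ≡ Nat.card {x : G // x ∈ Q ⊓ 𝐂[a] ∧ x ^ 2 = 1} [MOD q] := by
  let _ : MulAction (zpowers a) {x : G // x ∈ Q ∧ x ^ 2 = 1} :=
    { smul := fun b x => ⟨b * x * (b : G)⁻¹, (mem_normalizer_iff.1 (zpowers_le.2 hn b.2) x).1 x.2.1, by
        rw [conj_pow, x.2.2]; simp⟩
      one_smul := fun x => Subtype.ext (show ((1 : zpowers a) : G) * x * ((1 : zpowers a) : G)⁻¹ = x by simp)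
      mul_smul := fun b c x => Subtype.ext (show ((b * c : zpowers a) : G) * x * ((b * c : zpowers a) : G)⁻¹ =
        b * (c * x * (c : G)⁻¹) * (b : G)⁻¹ by simp [mul_assoc]) }
  refine ((Amalg.isPGroup_zpowers_of_orderOf (k := 1) (ha.trans (pow_one q).symm)).card_modEq_card_fixedPoints _).trans
    (by rw [Nat.card_congr (β := {x : G // x ∈ Q ⊓ 𝐂[a] ∧ x ^ 2 = 1})
      { toFun := fun x => ⟨x.1.1, mem_inf.2 ⟨x.1.2.1, mem_centralizer_singleton_iff.2 (mul_inv_eq_iff_eq_mul.1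
          (congrArg Subtype.val (x.2 ⟨a, mem_zpowers a⟩))).symm⟩, x.1.2.2⟩
        invFun := fun x => ⟨⟨x.1, x.2.1.1, x.2.2⟩, fun b => Subtype.ext (mul_inv_eq_iff_eq_mul.2
          ((cent_zpowers.ge x.2.1.2) b b.2))⟩
        left_inv := fun _ => rfl
        right_inv := fun _ => rfl }])

theorem exists_lift {A : Type*} [Group A] (φ : G →* A) (hφ : Function.Surjective φ) (hk : IsPGroup 2 φ.ker) {q : ℕ}
    (hq : q.Prime) (h2 : q ≠ 2) {c : A} (hc : orderOf c = q) : ∃ x, φ x = c ∧ orderOf x = q := by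
  have := Fact.mk hq
  obtain ⟨x, rfl⟩ := hφ c
  obtain ⟨k, hk'⟩ := hk.exists_card_eq
  obtain ⟨m, hm⟩ := Nat.exists_mul_mod_eq_one_of_coprime (((Nat.coprime_primes Nat.prime_two hq).2 h2.symm).pow_left k)
    hq.one_lt
  have a1 : φ (x ^ (2 ^ k * m)) = φ x := by rw [map_pow, ← pow_mod_orderOf, hc, hm.2, pow_one]
  refine ⟨x ^ (2 ^ k * m), a1, orderOf_eq_prime ?_ fun e => ?_⟩
  · have a2 : x ^ q ∈ φ.ker := by rw [MonoidHom.mem_ker, map_pow, ← hc, pow_orderOf_eq_one]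
    rw [← pow_mul, mul_comm, pow_mul, pow_mul, show (x ^ q) ^ 2 ^ k = 1 from
      congrArg Subtype.val (hk' ▸ pow_card_eq_one' : (⟨_, a2⟩ : φ.ker) ^ 2 ^ k = 1), one_pow]
  · rw [← a1, e, map_one, orderOf_one] at hc
    exact hq.ne_one hc.symm

theorem exists_min {Q N : Subgroup G} [Q.Normal] [N.Normal] (hQ : IsPGroup 2 Q) (hN : N ≤ Q) (h0 : N ≠ ⊥) :
    ∃ W : Subgroup G, W.Normal ∧ W ≠ ⊥ ∧ W ≤ N ∧ IsElementaryAbelian 2 W ∧ Q ≤ 𝐂(W) ∧
      (∀ K : Subgroup G, K.Normal → K ≤ W → K = ⊥ ∨ K = W) ∧ (𝐂(W) = ⊤ → Nat.card W = 2) := by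
  have := (hQ.to_le hN).isNilpotent
  obtain ⟨W, p, h1, h2, h3, h4, h5, h6, h7, h8⟩ := Hall.exists_minNormal_elementary_le N h0
  have := Fact.mk h6
  obtain rfl : p = 2 := by
    obtain ⟨k, hk⟩ := hQ.exists_card_eq
    exact (Nat.prime_dvd_prime_iff_eq h6 Nat.prime_two).1 (h6.dvd_of_dvd_pow
      (hk ▸ (dvd_card_of_isPGroup_ne_bot h8 h2).trans (card_dvd_of_le (h3.trans hN))))
  refine ⟨W, h1, h2, h3, ⟨h5, h7⟩, le_centralizer_iff.1 (inf_eq_left.1 ((h4 _ inferInstance inf_le_left).resolve_left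
    (Amalg.inf_center_ne_bot hQ (h3.trans hN) le_normalizer_of_normal h2))), h4, fun e => ?_⟩
  obtain ⟨x, hx, ho⟩ := exists_mem_orderOf_eq_prime Nat.prime_two (dvd_card_of_isPGroup_ne_bot h8 h2)
  have a1 : (zpowers x).Normal := PGrp.normal_of_le_center (zpowers_le.2 (mem_center_iff.2 fun y =>
    ((e.ge (mem_top y)) x hx).symm))
  rw [← (h4 _ a1 (zpowers_le.2 hx)).resolve_left fun e => by
    rw [zpowers_eq_bot] at e; rw [e, orderOf_one] at ho; omega, Nat.card_zpowers, ho]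

end Cfsg.Lib.SR4
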