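import Cfsg.Agent.Lib.SR4.A
import Cfsg.Agent.Lib.Coprime.HallAut
import Cfsg.Agent.Lib.Char.Classes
import Cfsg.Agent.Lib.PGrp.OmegaBasic

/-!
# Two-constrained groups of sectional rank four: the quotient of order 168, tools
-/

set_option autoImplicit false
set_option linter.unusedSectionVars false

namespace Cfsg.Lib.SR4

open Subgroup Cfsg.Lib.Core Cfsg.Lib.Amalg Cfsg.Lib.BG1 Cfsg.Lib.BS
open scoped commutatorElement

abbrev A0 : Type := Fin 3 → ZMod 2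

def U0 (a : A0) : A0 := ![a 0 + a 2, a 1, a 2]
def G0 (a : A0) : A0 := ![a 0, a 2, a 1 + a 2]

def uA : MulAut (Multiplicative A0) :=
  { toFun := fun x => .ofAdd (U0 x.toAdd), invFun := fun x => .ofAdd (U0 x.toAdd), left_inv := by decide,
    right_inv := by decide, map_mul' := by decide }

def gA : MulAut (Multiplicative A0) :=
  { toFun := fun x => .ofAdd (G0 x.toAdd), invFun := fun x => .ofAdd (G0 (G0 x.toAdd)), left_inv := by decide,
    right_inv := by decide, map_mul' := by decide }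

theorem uA_facts : gA ^ 3 = 1 ∧ gA ≠ 1 ∧ uA ≠ 1 ∧ uA * uA = 1 ∧ (gA * uA * gA⁻¹)⁻¹ * (gA * (gA * uA * gA⁻¹) * gA⁻¹) = uA :=
  ⟨MulEquiv.ext (by decide), fun e => absurd (DFunLike.congr_fun e (.ofAdd ![0, 1, 0])) (by decide),
    fun e => absurd (DFunLike.congr_fun e (.ofAdd ![0, 0, 1])) (by decide), MulEquiv.ext (by decide),
    MulEquiv.ext (by decide)⟩

theorem e8 {V : Type*} [Group V] [Finite V] (h2 : ∀ x : V, x ^ 2 = 1) (h8 : Nat.card V = 8) :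
    Nonempty (V ≃* Multiplicative A0) := by
  let _ : CommGroup V := { (inferInstance : Group V) with
    mul_comm := Commute.of_orderOf_dvd_two fun a => orderOf_dvd_of_pow_eq_one (h2 a) }
  let _ : Module (ZMod 2) (Additive V) := AddCommGroup.zmodModule fun x => h2 x.toMul
  have a1 : Module.finrank (ZMod 2) (Additive V) = 3 := by
    have := Module.natCard_eq_pow_finrank (K := ZMod 2) (V := Additive V)
    rw [Nat.card_congr Additive.toMul, h8, Nat.card_zmod] at this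
    exact Nat.pow_right_injective le_rfl (this.symm.trans (by norm_num : 8 = 2 ^ 3))
  exact ⟨AddEquiv.toMultiplicativeRight (LinearEquiv.ofFinrankEq (R := ZMod 2) (Additive V) A0 (by simp [a1])).toAddEquiv⟩

theorem card_aut : Nat.card (MulAut (Multiplicative A0)) ∣ 168 := by
  have := Coprime.card_mulAut_dvd (P := Multiplicative A0) (p := 2) (n := 3) (r := 3) (by simp) (by
    rw [frattini_eq_bot_of_elementary Nat.prime_two (by decide), index_bot]; simp)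
  simpa [Finset.prod_range_succ] using this

structure H7 {G : Type*} [Group G] (Q : Subgroup G) (f : G) : Prop where
  p2 : IsPGroup 2 Q
  simp : ∀ C : Subgroup G, C.Normal → Q ≤ C → C = Q ∨ C = ⊤
  idx : Q.index = 168
  f7 : orderOf f = 7
  nc : f ∉ 𝐂(Q)
  sec : Sec G

structure Tr {G : Type*} [Group G] (Q K N : Subgroup G) (u g : G) (r : G → A0) : Prop where
  g3 : orderOf g = 3
  uQ : u ∉ Q
  u2 : u * u ∈ Q
  prod : u * (g * u * g⁻¹) * (g * (g * u * g⁻¹) * g⁻¹) = 1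
  add : ∀ x ∈ K, ∀ y ∈ K, r (x * y) = r x + r y
  ker : ∀ x ∈ K, r x = 0 ↔ x ∈ N
  surj : ∀ a, ∃ x ∈ K, r x = a
  ru : ∀ x ∈ K, r (u * x * u⁻¹) = U0 (r x)
  rg : ∀ x ∈ K, r (g * x * g⁻¹) = G0 (r x)

variable {G : Type*} [Group G] [Finite G] {Q : Subgroup G} [hQn : Q.Normal] {f : G}

theorem H7.exists_tr (h : H7 Q f) (K N : Subgroup G) [hK : K.Normal] [N.Normal] (h1 : N ≤ K)
    (h8 : Nat.card K = 8 * Nat.card N) (h2 : ∀ x ∈ K, x * x ∈ N) (h3 : ∀ q ∈ Q, ∀ x ∈ K, x⁻¹ * (q * x * q⁻¹) ∈ N)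
    (h4 : ∃ x ∈ K, x⁻¹ * (f * x * f⁻¹) ∉ N) : ∃ u g r, Tr Q K N u g r := by
  classical
  have : Fact (Nat.Prime 3) := ⟨Nat.prime_three⟩
  have := Normal.map hK _ (QuotientGroup.mk'_surjective N)
  obtain ⟨e⟩ := e8 (V := K.map (QuotientGroup.mk' N)) (by
    rintro ⟨_, x, hx, rfl⟩
    exact Subtype.ext ((map_pow _ x 2).symm.trans ((QuotientGroup.eq_one_iff _).2 (sq x ▸ h2 x hx)))) (by
      have := Core.card_map_mk'_mul N K
      rw [inf_eq_left.2 h1, h8] at this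
      exact Nat.eq_of_mul_eq_mul_right Nat.card_pos this)
  let φ : G →* MulAut (Multiplicative A0) := (MulAut.congr e).toMonoidHom.comp
    ((MulAut.conjNormal (H := K.map (QuotientGroup.mk' N))).comp (QuotientGroup.mk' N))
  let r : G → A0 := fun x => if hx : x ∈ K then (e ⟨x, mem_map_of_mem (QuotientGroup.mk' N) hx⟩).toAdd else 0
  have r1 : ∀ x (hx : x ∈ K), r x = (e ⟨x, mem_map_of_mem (QuotientGroup.mk' N) hx⟩).toAdd := fun x hx => dif_pos hx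
  have r2 : ∀ a, ∀ x ∈ K, r (a * x * a⁻¹) = (φ a (.ofAdd (r x))).toAdd := fun a x hx => by
    rw [r1 _ (hK.conj_mem x hx a), r1 x hx]
    exact congrArg (fun y => (e y).toAdd) (Subtype.ext (by simp))
  have r3 : ∀ x ∈ K, ∀ y ∈ K, r x = r y ↔ x⁻¹ * y ∈ N := fun x hx y hy => by
    rw [r1 x hx, r1 y hy, Multiplicative.toAdd.injective.eq_iff, e.injective.eq_iff, Subtype.ext_iff]
    exact QuotientGroup.eq
  have r4 : ∀ a, ∃ x ∈ K, r x = a := fun a => by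
    obtain ⟨⟨_, x, hx, rfl⟩, h⟩ := e.surjective (.ofAdd a)
    exact ⟨x, hx, (r1 x hx).trans (congrArg Multiplicative.toAdd h)⟩
  have a1 : φ.ker = Q := (h.simp _ inferInstance fun q hq => MulEquiv.ext fun a => by
    obtain ⟨x, hx, hr⟩ := r4 a.toAdd
    have := (r3 x hx _ (hK.conj_mem x hx q)).2 (h3 q hq x hx)
    rw [r2 q x hx, hr] at this
    exact this.symm).resolve_right fun e' => by
      obtain ⟨x, hx, hn⟩ := h4
      refine hn ((r3 x hx _ (hK.conj_mem x hx f)).1 ?_)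
      rw [r2 f x hx, (e'.ge (mem_top f) : φ f = 1)]
      rfl
  have a2 : Function.Surjective φ := MonoidHom.range_eq_top.1 (eq_top_of_le_card _ (by
    rw [← index_ker, a1, h.idx]; exact Nat.le_of_dvd (by norm_num) card_aut))
  obtain ⟨f1, f2, f3, f4, f5⟩ := uA_facts
  obtain ⟨g, hg, ho⟩ := exists_lift φ a2 (a1 ▸ h.p2) Nat.prime_three (by norm_num) (orderOf_eq_prime f1 f2)
  obtain ⟨y, hy⟩ := a2 (gA * uA * gA⁻¹)
  have a3 : φ (y⁻¹ * (g * y * g⁻¹)) = uA := by simp only [map_mul, map_inv, hg, hy, f5]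
  have a4 : r 1 = 0 := (r1 1 (one_mem K)).trans (congrArg Multiplicative.toAdd (map_one e))
  refine ⟨y⁻¹ * (g * y * g⁻¹), g, r, ho, fun e' => f3 (a3.symm.trans (a1.ge e')), a1.le ?_, ?_, fun x hx z hz => ?_,
    fun x hx => ?_, r4, fun x hx => by rw [r2 _ x hx, a3]; rfl, fun x hx => by rw [r2 _ x hx, hg]; rfl⟩
  · rw [MonoidHom.mem_ker, map_mul, a3, f4]
  · calc _ = y⁻¹ * (g * g * g * y * (g * g * g)⁻¹) := by group
      _ = 1 := by rw [← pow_three', ← ho, pow_orderOf_eq_one]; group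
  · rw [r1 x hx, r1 z hz, r1 _ (mul_mem hx hz), ← toAdd_mul, ← map_mul]
    rfl
  · rw [← a4, eq_comm, r3 1 (one_mem K) x hx, inv_one, one_mul]

theorem H7.fQ (h : H7 Q f) : f ∉ Q := not_mem_of_odd h.p2 Nat.prime_seven (by norm_num) h.f7

theorem H7.top (h : H7 Q f) {C : Subgroup G} [C.Normal] (h1 : Q ≤ C) {x : G} (hx : x ∈ C) (hx' : x ∉ Q) : C = ⊤ :=
  (h.simp C inferInstance h1).resolve_left fun e => hx' (e ▸ hx)

theorem mk_comm {W : Subgroup G} [W.Normal] {x y : G} : (x : G ⧸ W) * y = y * x ↔ x⁻¹ * (y * x * y⁻¹) ∈ W := by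
  rw [← QuotientGroup.eq, QuotientGroup.mk_mul, QuotientGroup.mk_mul, QuotientGroup.mk_inv, eq_mul_inv_iff_mul_eq]

theorem H7.quot (h : H7 Q f) (W : Subgroup G) [W.Normal] (hWQ : W ≤ Q) (hn : ¬ ∀ y ∈ Q, y⁻¹ * (f * y * f⁻¹) ∈ W) :
    H7 (Q.map (QuotientGroup.mk' W)) (f : G ⧸ W) := by
  have hs := QuotientGroup.mk'_surjective W
  refine ⟨h.p2.map _, fun C hC h1 => ?_, (index_map_eq _ hs (by rwa [QuotientGroup.ker_mk'])).trans h.idx,
    orderOf_mk (h.p2.to_le hWQ) Nat.prime_seven (by norm_num) h.f7,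
    fun e => hn fun y hy => mk_comm.1 (e _ (mem_map_of_mem (QuotientGroup.mk' W) hy)), h.sec.quot W⟩
  rw [← map_comap_eq_self_of_surjective hs C]
  rcases h.simp (C.comap (QuotientGroup.mk' W)) inferInstance (map_le_iff_le_comap.1 h1) with e | e
  · exact Or.inl (by rw [e])
  · exact Or.inr (by rw [e, map_top_of_surjective _ hs])

theorem comm_of_odd {x a : G} {q : ℕ} (hq : Odd q) (ha : a ^ q = 1) (h1 : (x⁻¹ * (a * x * a⁻¹)) ^ 4 = 1)
    (h2 : x⁻¹ * (a * x * a⁻¹) * a = a * (x⁻¹ * (a * x * a⁻¹))) : x * a = a * x := by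
  obtain ⟨m, hm⟩ : ∃ m, m = x⁻¹ * (a * x * a⁻¹) := ⟨_, rfl⟩
  rw [← hm] at h1 h2
  have a1 : ∀ k : ℕ, a ^ k * x * (a ^ k)⁻¹ = x * m ^ k := fun k => by
    induction k with
    | zero => simp
    | succ k ih =>
      calc _ = a * (a ^ k * x * (a ^ k)⁻¹) * a⁻¹ := by group
        _ = x * (x⁻¹ * (a * x * a⁻¹)) * (a * m ^ k * a⁻¹) := by rw [ih]; group
        _ = _ := by rw [← hm, ← (Commute.pow_left h2 k).eq]; group
  have a2 := a1 q
  rw [ha, one_mul, inv_one, mul_one, left_eq_mul] at a2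
  have a3 := Nat.eq_one_of_dvd_coprimes ((Nat.coprime_two_left.2 hq).pow_left 2) (orderOf_dvd_of_pow_eq_one h1)
    (orderOf_dvd_of_pow_eq_one a2)
  rw [orderOf_eq_one_iff, hm, inv_mul_eq_one, eq_mul_inv_iff_mul_eq] at a3
  exact a3

theorem seven {W : Subgroup G} (hW : IsPGroup 2 W) (h16 : Nat.card W ≤ 16) (hf : orderOf f = 7) (hn : f ∈ 𝐍(W))
    (hc : f ∉ 𝐂(W)) : (Nat.card W = 8 ∧ W ⊓ 𝐂[f] = ⊥) ∨ (Nat.card W = 16 ∧ Nat.card ↥(W ⊓ 𝐂[f]) = 2) := by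
  have : Fact (Nat.Prime 7) := ⟨Nat.prime_seven⟩
  obtain ⟨k, j, h1, h2, h3⟩ := pow_cases hW hc
  have h4 := card_modEq hf hn
  rw [h2] at h16
  have h5 : k ≤ 4 := (Nat.pow_le_pow_iff_right one_lt_two).1 h16
  rw [h2, h3] at h4
  rw [← card_eq_one, h2, h3]
  interval_cases k <;> interval_cases j <;>
    first | exact Or.inl ⟨rfl, rfl⟩ | exact Or.inr ⟨rfl, rfl⟩ | exact absurd h4 (by decide)

theorem zp_inf (hf : orderOf f = 7) {x : G} (hx : x * f ≠ f * x) {c : G} (h1 : c ∈ zpowers f) (h2 : c * x = x * c) :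
    c = 1 := by
  rcases (Nat.dvd_prime Nat.prime_seven).1 (hf ▸ Nat.card_zpowers f ▸
    card_dvd_of_le (inf_le_left : zpowers f ⊓ 𝐂[x] ≤ zpowers f)) with e | e
  · exact (card_eq_one.1 e).le (mem_inf.2 ⟨h1, mem_centralizer_singleton_iff.2 h2⟩)
  · exact absurd (mem_centralizer_singleton_iff.1 ((eq_of_le_of_card_ge (inf_le_left : zpowers f ⊓ 𝐂[x] ≤ zpowers f)
      (by rw [e, Nat.card_zpowers, hf])).ge (mem_zpowers f)).2).symm hx

theorem card_ne_one (W : Subgroup G) : Nat.card {y : G // y ∈ W ∧ y ≠ 1} = Nat.card W - 1 :=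
  (Nat.card_coe_set_eq ((W : Set G) \ {1})).trans (Set.ncard_sdiff_singleton_of_mem W.one_mem)

theorem trans7 {W : Subgroup G} (h8 : Nat.card W = 8) (hf : orderOf f = 7) (hn : f ∈ 𝐍(W)) (hc : W ⊓ 𝐂[f] = ⊥)
    {x y : G} (hx : x ∈ W) (hy : y ∈ W) (x1 : x ≠ 1) (y1 : y ≠ 1) : ∃ c ∈ zpowers f, c * x * c⁻¹ = y := by
  let φ : zpowers f → {y : G // y ∈ W ∧ y ≠ 1} := fun c =>
    ⟨c * x * (c : G)⁻¹, (mem_normalizer_iff.1 (zpowers_le.2 hn c.2) x).1 hx, by simpa using x1⟩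
  have a1 : Function.Injective φ := fun c d e => Subtype.ext (inv_mul_eq_one.1 (zp_inf hf (x := x)
    (fun e => x1 (hc.le (mem_inf.2 ⟨hx, mem_centralizer_singleton_iff.2 e⟩))) (mul_mem (inv_mem c.2) d.2) (by
      have : (c : G) * x * (c : G)⁻¹ = d * x * (d : G)⁻¹ := congrArg Subtype.val e
      calc _ = (c : G)⁻¹ * (d * x * (d : G)⁻¹) * d := by group
        _ = _ := by rw [← this]; group)))
  obtain ⟨c, hc⟩ := (a1.bijective_of_nat_card_le (by rw [card_ne_one, h8, Nat.card_zpowers, hf])).2 ⟨y, hy, y1⟩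
  exact ⟨c, c.2, congrArg Subtype.val hc⟩

theorem card_mk {W U : Subgroup G} [W.Normal] (h : W ≤ U) {k : ℕ} (hk : Nat.card U = k * Nat.card W) :
    Nat.card (U.map (QuotientGroup.mk' W)) = k := by
  have := Core.card_map_mk'_mul W U
  rw [inf_eq_left.2 h, hk] at this
  exact Nat.eq_of_mul_eq_mul_right Nat.card_pos this

theorem trans7' {K N : Subgroup G} [N.Normal] (hK : IsPGroup 2 K) (h1 : N ≤ K) (h8 : Nat.card K = 8 * Nat.card N)
    (hf : orderOf f = 7) (hn : f ∈ 𝐍(K)) (hc : ∃ x ∈ K, x⁻¹ * (f * x * f⁻¹) ∉ N) {x y : G} (hx : x ∈ K) (hy : y ∈ K)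
    (x1 : x ∉ N) (y1 : y ∉ N) : ∃ c ∈ zpowers f, ∃ n ∈ N, y = c * x * c⁻¹ * n := by
  have a1 := orderOf_mk (hK.to_le h1) Nat.prime_seven (by norm_num) hf
  have a2 : (f : G ⧸ N) ∈ 𝐍(K.map (QuotientGroup.mk' N)) := le_normalizer_map _ (mem_map_of_mem _ hn)
  have a3 := card_mk h1 h8
  obtain ⟨_, hc', e⟩ := trans7 a3 a1 a2 ((seven (hK.map _) (by omega) a1 a2 fun e => by
    obtain ⟨x, hx, hn⟩ := hc
    exact hn (mk_comm.1 (e _ (mem_map_of_mem (QuotientGroup.mk' N) hx)))).resolve_right (by omega)).2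
    (mem_map_of_mem _ hx) (mem_map_of_mem _ hy) (fun e => x1 ((QuotientGroup.eq_one_iff x).1 e))
    fun e => y1 ((QuotientGroup.eq_one_iff y).1 e)
  obtain ⟨k, rfl⟩ := hc'
  exact ⟨f ^ k, zpow_mem (mem_zpowers f) k, _, QuotientGroup.eq.1 (show ((f ^ k * x * (f ^ k)⁻¹ : G) : G ⧸ N) = y from e),
    by group⟩

/-- `B / D` is an elementary abelian section -/
def El (D B : Subgroup G) : Prop := D ≤ B ∧ B ≤ 𝐍(D) ∧ ∀ x ∈ B, x * x ∈ D

theorem mem_sup_two {B : Subgroup G} {t : G} (a4 : t ∈ 𝐍(B)) (ht : t * t ∈ B) {y : G} (hy : y ∈ B ⊔ zpowers t) :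
    y ∈ B ∨ ∃ x ∈ B, y = x * t := by
  obtain ⟨a, ha, k, rfl⟩ := (PGrp.mem_sup_zpowers_of_mem_normalizer a4).1 hy
  obtain ⟨m, rfl | rfl⟩ := Int.even_or_odd' k
  · exact Or.inl (mul_mem ha (by rw [zpow_mul, zpow_two]; exact zpow_mem ht m))
  · exact Or.inr ⟨a * t ^ (2 * m), mul_mem ha (by rw [zpow_mul, zpow_two]; exact zpow_mem ht m), by
      rw [zpow_add_one, mul_assoc]⟩

theorem El.step {D B : Subgroup G} (h : El D B) {t : G} (ht : t ∈ 𝐍(D)) (h1 : t ∉ B) (h2 : ∀ x ∈ B, x * t * (x * t) ∈ D) :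
    El D (B ⊔ zpowers t) ∧ Nat.card ↥(B ⊔ zpowers t) = 2 * Nat.card B ∧
      ∀ y ∈ B ⊔ zpowers t, y ∈ B ∨ ∃ x ∈ B, y = x * t := by
  have a1 : t * t ∈ D := by simpa using h2 1 (one_mem B)
  have a2 : t ∈ 𝐍(B) := mem_normalizer_fintype fun x hx => by
    show t * x * t⁻¹ ∈ B
    convert mul_mem (mul_mem (inv_mem hx) (h.1 (h2 x hx))) (inv_mem (h.1 a1)) using 1
    group
  refine ⟨⟨h.1.trans le_sup_left, sup_le h.2.1 (zpowers_le.2 ht), fun y hy => ?_⟩,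
    PGrp.card_sup_zpowers_of_mem_normalizer (p := 2) a2 h1 (sq t ▸ h.1 a1), fun y => mem_sup_two a2 (h.1 a1)⟩
  rcases mem_sup_two a2 (h.1 a1) hy with e | ⟨x, hx, rfl⟩
  exacts [h.2.2 y e, h2 x hx]

theorem Sec.el (hs : Sec G) {D B : Subgroup G} (h : El D B) : Nat.card B ≤ 16 * Nat.card D := by
  rw [← Core.card_mul_relIndex h.1, mul_comm]
  exact Nat.mul_le_mul_right _ (hs _ _ h.1 h.2.1 h.2.2)

theorem Sec.four (hs : Sec G) {D B : Subgroup G} (h : El D B) (hB : B ≤ Q) {u g : G} (hu : u ∈ 𝐍(D)) (gD : g ∈ 𝐍(D))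
    (gB : g ∈ 𝐍(B)) (uQ : u ∉ Q) (hp : u * (g * u * g⁻¹) * (g * (g * u * g⁻¹) * g⁻¹) ∈ B)
    (h2 : ∀ x ∈ B, x * u * (x * u) ∈ D) : 4 * Nat.card B ≤ 16 * Nat.card D := by
  have key : ∀ t, (t ∉ Q ∧ t ∈ 𝐍(D) ∧ ∀ x ∈ B, x * t * (x * t) ∈ D) →
      (g * t * g⁻¹ ∉ Q ∧ g * t * g⁻¹ ∈ 𝐍(D) ∧ ∀ x ∈ B, x * (g * t * g⁻¹) * (x * (g * t * g⁻¹)) ∈ D) := fun t ht =>
    ⟨fun e => ht.1 (by simpa [mul_assoc] using hQn.conj_mem _ e g⁻¹), mul_mem (mul_mem gD ht.2.1) (inv_mem gD), fun x hx => by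
      convert (mem_normalizer_iff.1 gD _).1 (ht.2.2 _ ((mem_normalizer_iff.1 (inv_mem gB) x).1 hx)) using 1
      group⟩
  obtain ⟨v1, v2, v3⟩ := key u ⟨uQ, hu, h2⟩
  obtain ⟨w1, w2, w3⟩ := key _ ⟨v1, v2, v3⟩
  generalize g * u * g⁻¹ = v at *
  generalize g * v * g⁻¹ = w at *
  obtain ⟨a1, a2, a3⟩ := h.step hu (fun e => uQ (hB e)) h2
  have c1 : v ∉ B ⊔ zpowers u := fun e => by
    rcases a3 v e with e | ⟨x, hx, rfl⟩
    · exact v1 (hB e)
    · refine w1 ?_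
      convert mul_mem (inv_mem (mul_mem (hQn.conj_mem x (hB hx) u) (hB (h.1 (h2 1 (one_mem B)))))) (hB hp) using 1
      group
  obtain ⟨b1, b2, -⟩ := a1.step v2 c1 fun y hy => by
    rcases a3 y hy with e | ⟨x, hx, rfl⟩
    · exact v3 y e
    · convert inv_mem ((mem_normalizer_iff.1 w2 _).1 (w3 _ (inv_mem (mul_mem hx hp)))) using 1
      group
  have := hs.el b1
  omega

theorem cent_six {H : Type*} [Group H] {u g : H} (hp : u * (g * u * g⁻¹) * (g * (g * u * g⁻¹) * g⁻¹) = 1)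
    (hg : u * u * g = g * (u * u)) : (u * u) ^ 6 = 1 := by
  obtain ⟨v, hv⟩ : ∃ v, v = g * u * g⁻¹ := ⟨_, rfl⟩
  have a1 : v * v = u * u := by
    calc _ = g * (u * u) * g⁻¹ := by rw [hv]; group
      _ = _ := by rw [← hg]; group
  have a2 : u * v * (u * v) = (u * u)⁻¹ := by
    rw [← hv] at hp
    rw [eq_inv_of_mul_eq_one_left hp]
    calc _ = (g * (v * v) * g⁻¹)⁻¹ := by group
      _ = _ := by rw [a1, ← hg]; group
  have a3 : v * (u * u) * v⁻¹ = u * u := by rw [← a1]; group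
  have a4 : u⁻¹ * (u * v * (u * v)) * u * (u * v * (u * v)) =
      v * (u * (v * (u * u) * v⁻¹ * (v * v)) * u⁻¹) * v⁻¹ * (v * (u * u) * v⁻¹) * (v * v) := by group
  rw [a2, a3, a1, show u * (u * u * (u * u)) * u⁻¹ = u * u * (u * u) by group, ← a1,
    show v * (v * v * (v * v)) * v⁻¹ = v * v * (v * v) by group, a1] at a4
  calc _ = (u * u) ^ 2 * (u * u * (u * u) * (u * u) * (u * u)) := by simp only [pow_succ, pow_zero, one_mul, mul_assoc]
    _ = 1 := by rw [← a4, sq]; group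

theorem ident {A : Type*} [AddCommGroup A] {K : Subgroup G} [hK : K.Normal] (τ : G → A)
    (add : ∀ x ∈ K, ∀ y ∈ K, τ (x * y) = τ x + τ y) (α β : A → A) {u v : G}
    (hu : ∀ m ∈ K, τ (u * m * u⁻¹) = α (τ m)) (hu' : ∀ m ∈ K, τ (u⁻¹ * m * u) = α (τ m))
    (hv : ∀ m ∈ K, τ (v * m * v⁻¹) = β (τ m)) (hx : u * u ∈ K) (hy : v * v ∈ K) (hz : u * v * (u * v) ∈ K) :
    α (τ (u * v * (u * v))) + τ (u * v * (u * v)) =
      β (α (β (τ (u * u)) + τ (v * v))) + β (τ (u * u)) + τ (v * v) := by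
  have a4 : u⁻¹ * (u * v * (u * v)) * u * (u * v * (u * v)) =
      v * (u * (v * (u * u) * v⁻¹ * (v * v)) * u⁻¹) * v⁻¹ * (v * (u * u) * v⁻¹) * (v * v) := by group
  have b1 := hK.conj_mem _ hx v
  have b2 := hK.conj_mem _ (mul_mem b1 hy) u
  have := congrArg τ a4
  rwa [add _ (by simpa using hK.conj_mem _ hz u⁻¹) _ hz, hu' _ hz, add _ (mul_mem (hK.conj_mem _ b2 v) b1) _ hy,
    add _ (hK.conj_mem _ b2 v) _ b1, hv _ b2, hu _ (mul_mem b1 hy), add _ b1 _ hy, hv _ hx] at this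

theorem split16 {N : Subgroup G} (hN : IsElementaryAbelian 2 N) (h16 : Nat.card N = 16) (hf : orderOf f = 7)
    (hn : f ∈ 𝐍(N)) (h2 : Nat.card ↥(N ⊓ 𝐂[f]) = 2) : ∃ (E : Subgroup G) (c : G), f ∈ 𝐍(E) ∧ Nat.card E = 8 ∧ E ⊓ 𝐂[f] = ⊥ ∧
      c ≠ 1 ∧ N ⊓ 𝐂[f] = zpowers c ∧ E ⊔ zpowers c = N ∧ ∀ a ∈ 𝐍(N), a * f = f * a → a ∈ 𝐍(E) := by
  have hc : (Nat.card (zpowers f)).Coprime (Nat.card N) := by rw [Nat.card_zpowers, hf, h16]; norm_num
  have a1 := coprime_cent_prod (zpowers_le.2 hn) hc (Or.inl inferInstance)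
  have a2 := coprime_abelian_cent_TI (zpowers_le.2 hn) hc hN.1
  rw [cent_zpowers] at a1 a2
  obtain ⟨c, hc1, hc2⟩ := exists_mem_orderOf_eq_prime Nat.prime_two h2.symm.dvd
  have a3 : zpowers c = N ⊓ 𝐂[f] := eq_of_le_of_card_ge (zpowers_le.2 hc1) (by rw [h2, Nat.card_zpowers, hc2])
  have a4 := Core.card_sup_mul_card_inf (H := N ⊓ 𝐂[f]) (K := ⁅N, zpowers f⁆) (inf_le_left.trans (le_norm_commutator_left _ _))
  have a5 : (N ⊓ 𝐂[f]) ⊓ ⁅N, zpowers f⁆ = ⊥ := eq_bot_iff.2 fun x hx => a2.le (mem_inf.2 ⟨hx.2, hx.1.2⟩)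
  rw [sup_comm, a1, h16, h2, a5, card_bot] at a4
  refine ⟨⁅N, zpowers f⁆, c, le_norm_commutator_right _ _ (mem_zpowers f), by omega, a2, fun e => ?_, a3.symm, a3 ▸ a1,
    fun a ha e => mem_normalizer_fintype fun x hx => ?_⟩
  · rw [e, orderOf_one] at hc2; omega
  · refine (commutator_le.2 fun y hy k hk => ?_ : ⁅N, zpowers f⁆ ≤ ⁅N, zpowers f⁆.comap (MulAut.conj a).toMonoidHom) hx
    rw [mem_comap, map_commutatorElement]
    refine commutator_mem_commutator ((mem_normalizer_iff.1 ha y).1 hy) ?_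
    rw [show (MulAut.conj a).toMonoidHom k = k from mul_inv_eq_iff_eq_mul.2
      (cent_zpowers.ge (mem_centralizer_singleton_iff.2 e) k hk).symm]
    exact hk

theorem H7.idx_sup (h : H7 Q f) {x : G} {q : ℕ} [Fact q.Prime] (h1 : x ∉ Q) (h2 : x ^ q ∈ Q) :
    q * (Q ⊔ zpowers x).index = 168 := by
  have a1 := (Q ⊔ zpowers x).card_mul_index
  rw [PGrp.card_sup_zpowers h1 h2, ← Q.card_mul_index, h.idx, mul_comm q, mul_assoc] at a1
  exact Nat.eq_of_mul_eq_mul_left Nat.card_pos a1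

theorem H7.orb (h : H7 Q f) {N E : Subgroup G} [hNn : N.Normal] (hN : IsElementaryAbelian 2 N) (hQ : Q ≤ 𝐂(N))
    (hf : f ∈ 𝐍(E)) (h8 : Nat.card E = 8) (hE : E ⊓ 𝐂[f] = ⊥) {c : G} (c1 : c ≠ 1) (c2 : c * f = f * c)
    (c3 : E ⊔ zpowers c = N) (c4 : c ∉ center G) :
    E.Normal ∧ ∀ y ∈ N, y ∉ E → ∀ u ∉ Q, u * u ∈ Q → u * y ≠ y * u := by
  have : Fact (Nat.Prime 7) := ⟨Nat.prime_seven⟩
  have EN : E ≤ N := c3 ▸ le_sup_left
  have cN : c ∈ N := c3 ▸ mem_sup_right (mem_zpowers c)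
  have cm := PGrp.isMulCommutative_iff_forall.1 hN.1
  have cc : c * c = 1 := sq c ▸ hN.2 c cN
  have cE : c ∉ E := fun e => c1 (hE.le (mem_inf.2 ⟨e, mem_centralizer_singleton_iff.2 c2⟩))
  have cn : c ∈ 𝐍(E) := centralizer_le_normalizer _ fun y hy => cm y (EN hy) c cN
  have a0 : ∀ y ∈ N, y ∈ E ∨ ∃ e ∈ E, y = e * c := fun y hy => mem_sup_two cn (cc ▸ one_mem E) (c3 ▸ hy)
  have a1 : (𝐂[c]).index ∣ 24 := by
    have := h.idx_sup (q := 7) h.fQ (by rw [← h.f7, pow_orderOf_eq_one]; exact one_mem Q)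
    rw [show 24 = (Q ⊔ zpowers f).index by omega]
    exact index_dvd_of_le (sup_le (fun q hq => mem_centralizer_singleton_iff.2 (hQ hq c cN).symm)
      (zpowers_le.2 (mem_centralizer_singleton_iff.2 c2.symm)))
  have t1 : ∀ e ∈ E, ∀ e' ∈ E, e ≠ 1 → e' ≠ 1 → IsConj e e' ∧ IsConj (e * c) (e' * c) := fun e he e' he' e1 e2 => by
    obtain ⟨k, hk, rfl⟩ := trans7 h8 h.f7 hf hE he he' e1 e2
    refine ⟨isConj_iff.2 ⟨k, rfl⟩, isConj_iff.2 ⟨k, ?_⟩⟩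
    rw [mul_assoc (k * e), ← Commute.eq (Commute.inv_right (cent_zpowers.ge (mem_centralizer_singleton_iff.2 c2) k hk).symm)]
    group
  have oN : ∀ y, IsConj c y → y ∈ N ∧ y ≠ 1 := fun y hy => by
    obtain ⟨k, rfl⟩ := isConj_iff.1 hy
    exact ⟨hNn.conj_mem c cN k, by simpa using c1⟩
  have nAB : ∀ e ∈ E, ∀ e' ∈ E, e' ≠ 1 → IsConj c e → ¬ IsConj c (e' * c) := fun e he e' he' e1 i1 i2 => by
    rw [← Char.card_isConj, Nat.card_congr (Equiv.subtypeEquivRight (q := fun y => y ∈ N ∧ y ≠ 1) fun y =>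
      ⟨oN y, fun hy => ?_⟩), card_ne_one, ← c3, PGrp.card_sup_zpowers_of_mem_normalizer (p := 2) cn cE
        (by rw [sq, cc]; exact one_mem E), h8] at a1
    · omega
    · rcases a0 y hy.1 with hy' | ⟨y, hy', rfl⟩
      · exact i1.trans (t1 e he y hy' (oN e i1).2 hy.2).1
      · by_cases y1 : y = 1
        · rw [y1, one_mul]
        · exact i2.trans (t1 e' he' y hy' e1 y1).2
  obtain ⟨y, y1, y2⟩ : ∃ y, IsConj c y ∧ y ≠ c := by
    by_contra! hy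
    exact c4 (mem_center_iff.2 fun k => mul_inv_eq_iff_eq_mul.1 (hy _ (isConj_iff.2 ⟨k, rfl⟩)))
  have y3 : (y ∈ E) ∨ ∃ e ∈ E, e ≠ 1 ∧ y = e * c := (a0 y (oN y y1).1).imp_right fun ⟨e, he, h⟩ =>
    ⟨e, he, fun e1 => y2 (by rw [h, e1, one_mul]), h⟩
  have X : ∀ e ∈ E, e ≠ 1 → ∀ k : G, ∃ e' ∈ E, k * (e * c) * k⁻¹ = e' * c := fun e he e1 k =>
    (a0 _ (hNn.conj_mem _ (mul_mem (EN he) cN) k)).resolve_left fun hk => by
      have i1 : IsConj (e * c) (k * (e * c) * k⁻¹) := isConj_iff.2 ⟨k, rfl⟩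
      have k1 : k * (e * c) * k⁻¹ ≠ 1 := fun e2 => cE (by
        rw [← inv_eq_of_mul_eq_one_right (conj_eq_one_iff.1 e2)]; exact inv_mem he)
      rcases y3 with y3 | ⟨e', he', e2, rfl⟩
      · exact nAB y y3 e he e1 y1 ((y1.trans (t1 y y3 _ hk (oN y y1).2 k1).1).trans i1.symm)
      · exact nAB _ hk e' he' e2 ((y1.trans (t1 e' he' e he e2 e1).2).trans i1) y1
  have hEn : E.Normal := ⟨fun e he k => by
    obtain ⟨e1, h1, h2⟩ : ∃ e1 ∈ E, e1 ∉ zpowers e := by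
      by_contra! hn
      have := card_le_of_le (hn : E ≤ zpowers e)
      have := Nat.le_of_dvd two_pos (orderOf_dvd_of_pow_eq_one (hN.2 e (EN he)))
      rw [Nat.card_zpowers] at *
      omega
    obtain ⟨e2, h3, h4⟩ := X e1 h1 (fun e => h2 (e ▸ one_mem _)) k
    obtain ⟨e3, h5, h6⟩ := X (e1⁻¹ * e) (mul_mem (inv_mem h1) he) (fun e' => h2 (inv_mul_eq_one.1 e' ▸ mem_zpowers _)) k
    have : k * e * k⁻¹ = e2 * e3 := by
      calc _ = k * (e1 * ((e1⁻¹ * e) * (c * c))) * k⁻¹ := by rw [cc]; group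
        _ = k * (e1 * c) * k⁻¹ * (k * (e1⁻¹ * e * c) * k⁻¹) := by
          rw [← mul_assoc _ c c, cm _ (EN (mul_mem (inv_mem h1) he)) c cN, mul_assoc c, cm _ (EN (mul_mem (inv_mem h1) he)) c cN]
          group
        _ = e2 * (c * e3) * c := by rw [h4, h6]; group
        _ = _ := by rw [← cm e3 (EN h5) c cN, ← mul_assoc, mul_assoc _ c c, cc, mul_one]
    exact this ▸ mul_mem h3 h5⟩
  have nA : ∀ e ∈ E, ¬ IsConj c e := fun e he i => by
    obtain ⟨k, rfl⟩ := isConj_iff.1 i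
    exact cE (by simpa [mul_assoc] using hEn.conj_mem _ he k⁻¹)
  have hB : ∀ e ∈ E, IsConj c (e * c) := fun e he => by
    by_cases e1 : e = 1
    · rw [e1, one_mul]
    · obtain ⟨e', he', e2, rfl⟩ := y3.resolve_left fun y3 => nA y y3 y1
      exact y1.trans (t1 e' he' e he e2 e1).2
  refine ⟨hEn, fun y hy yE u uQ u2 e => ?_⟩
  obtain ⟨e', he', rfl⟩ := (a0 y hy).resolve_left yE
  have b1 := h.idx_sup (q := 2) uQ (sq u ▸ u2)
  have b2 := index_dvd_of_le (sup_le (fun q hq => mem_centralizer_singleton_iff.2 (hQ hq _ hy).symm)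
    (zpowers_le.2 (mem_centralizer_singleton_iff.2 e)) : Q ⊔ zpowers u ≤ 𝐂[e' * c])
  rw [← Char.index_centralizer_eq_of_isConj (hB e' he'), ← Char.card_isConj, show (Q ⊔ zpowers u).index = 84 by omega,
    ← Nat.card_congr (Equiv.ofBijective (fun e : E => (⟨e * c, hB e e.2⟩ : {y // IsConj c y}))
      ⟨fun a b e => Subtype.ext (mul_right_cancel (congrArg Subtype.val e)), fun y => by
        obtain ⟨e, he, h⟩ := (a0 y (oN y y.2).1).resolve_left fun hy => nA y hy y.2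
        exact ⟨⟨e, he⟩, Subtype.ext h.symm⟩⟩), h8] at b2
  omega

end Cfsg.Lib.SR4
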