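import Cfsg.Agent.Lib.SR4.B

/-!
# Two-constrained groups of sectional rank four: a four-group of transvections on a homocyclic group
-/

set_option autoImplicit false
set_option linter.unusedSectionVars false

namespace Cfsg.Lib.SR4

def V0 (a : A0) : A0 := G0 (U0 (G0 (G0 a)))
def W0 (a : A0) : A0 := G0 (V0 (G0 (G0 a)))
def e1 : A0 := ![1, 0, 0]

theorem gam {M : Type*} [AddCommGroup M] (α β δ γ : M →+ M) (r : M →+ A0) (h2 : ∀ m, r m = 0 ↔ m + m = 0)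
    (hW : ∀ m, r m = 0 → ∃ m', m = m' + m') (surj : ∀ a, ∃ m, r m = a) (ra : ∀ m, r (α m) = U0 (r m))
    (rg : ∀ m, r (γ m) = G0 (r m)) (aa : ∀ m, α (α m) = m) (ga : ∀ m, γ (α m) = β (γ m)) (gb : ∀ m, γ (β m) = δ (γ m))
    (ggg : ∀ m, γ (γ (γ m)) = m) (abd : ∀ m, α (β (δ m)) = m) {p x : M} (hp : r p = e1) (ax : α x = x)
    (rx : r x 1 = 0 ∧ r x 2 = 0) (id : α (-γ (γ x)) + -γ (γ x) = β (α (β x + γ x)) + β x + γ x) :
    ∃ t, ∀ m, r m 1 = 0 ∧ r m 2 = 0 → α (m + t) + (m + t) + x = 0 ∨ α (m + t) + (m + t) + x = p + p := by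
  have dbl : ∀ m m', r m = r m' → m + m = m' + m' := fun m m' e => by
    have := (h2 (m - m')).1 (by rw [map_sub, e, sub_self])
    exact sub_eq_zero.1 (by rw [← this]; abel)
  have lbd : ∀ m m', m + m = m' + m' → r m = r m' := fun m m' e =>
    sub_eq_zero.1 ((map_sub r _ _).symm.trans ((h2 _).2 (by rw [← sub_eq_zero.2 e]; abel)))
  have four : p + p + (p + p) = 0 := (h2 _).1 (by rw [map_add, hp]; decide)
  obtain ⟨D, hD⟩ : ∃ D : M → Prop, D = fun m => m = 0 ∨ m = p + p := ⟨_, rfl⟩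
  have D0 : ∀ m, D m ↔ m = 0 ∨ m = p + p := fun m => by rw [hD]
  have dP : ∀ m, r m 1 = 0 ∧ r m 2 = 0 → D (m + m) := fun m h =>
    (D0 _).2 (((by decide : ∀ a : A0, a 1 = 0 ∧ a 2 = 0 → a = 0 ∨ a = e1) _ h).imp (h2 m).1
      fun e => dbl _ _ (e.trans hp.symm))
  have Dadd : ∀ m m', D m → D m' → D (m + m') := fun m m' h h' => by
    rw [D0] at h h' ⊢
    rcases h with rfl | rfl <;> rcases h' with rfl | rfl <;> simp [four]
  have sg : ∀ m, ∃ m', γ m' = m := fun m => ⟨_, ggg m⟩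
  have bb : ∀ m, β (β m) = m := fun m => by obtain ⟨m, rfl⟩ := sg m; rw [← ga, ← ga, aa]
  have dd : ∀ m, δ (δ m) = m := fun m => by obtain ⟨m, rfl⟩ := sg m; rw [← gb, ← gb, bb]
  have ab : ∀ m, α (β m) = δ m := fun m => by rw [← abd (δ m), dd]
  have ba : ∀ m, β (α m) = α (β m) := fun m => by rw [← dd (β (α m)), ← ab (β (α m)), bb, aa, ab]
  have da : ∀ m, δ (α m) = α (δ m) := fun m => by rw [← ab, ← ab, ba]
  have rb : ∀ m, r (β m) = V0 (r m) := fun m => by rw [← ggg m, ← ga, rg, ra, rg, rg, ggg]; rfl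
  have rd : ∀ m, r (δ m) = W0 (r m) := fun m => by rw [← ggg m, ← gb, rg, rb, rg, rg, ggg]; rfl
  have fx : ∀ φ : M →+ M, r (φ p) = e1 → φ (p + p) = p + p := fun φ h => by rw [map_add, dbl _ _ (h.trans hp.symm)]
  have pa := fx α (by rw [ra, hp]; decide)
  have pb := fx β (by rw [rb, hp]; decide)
  have pd := fx δ (by rw [rd, hp]; decide)
  have pg := fx γ (by rw [rg, hp]; decide)
  have NW : ∀ (φ : M →+ M) m, r (φ m) + r m = e1 → φ (m + m) + (m + m) = p + p := fun φ m h => by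
    rw [← dbl (φ m + m) p (by rw [map_add, h, hp]), map_add]; abel
  have NW' : ∀ m, D (α (m + m) + (m + m)) := fun m => by
    rw [show α (m + m) + (m + m) = (α m + m) + (α m + m) by rw [map_add]; abel]
    exact dP _ (by rw [map_add, ra]; generalize r m = a; revert a; decide)
  obtain ⟨b, hb⟩ := surj ![0, 0, 1]
  have s1 : ∀ m, r m 1 = 0 ∧ r m 2 = 0 → D (α m + m) := fun m h => by
    rcases (by decide : ∀ a : A0, a 1 = 0 ∧ a 2 = 0 → a = 0 ∨ a = e1) _ h with e | e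
    · obtain ⟨m', rfl⟩ := hW m e
      exact NW' m'
    · obtain ⟨m', h'⟩ := hW (m - (α b - b)) (by rw [map_sub, map_sub, ra, hb, e]; decide)
      have := NW' m'
      rwa [← h', show α (m - (α b - b)) + (m - (α b - b)) = α m + m by simp only [map_sub, aa]; abel] at this
  suffices ∃ t, D (α t + t + x) by
    obtain ⟨t, ht⟩ := this
    exact ⟨t, fun m h => (D0 _).1 (by
      rw [show α (m + t) + (m + t) + x = (α m + m) + (α t + t + x) by rw [map_add]; abel]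
      exact Dadd _ _ (s1 m h) ht)⟩
  by_contra! hn
  obtain ⟨b0, h0⟩ : ∃ b0, r (α b0 + b0 + x) = 0 := by
    rcases (by decide : ∀ a : A0, a 1 = 0 ∧ a 2 = 0 → a = 0 ∨ a = e1) _ rx with e | e
    · exact ⟨0, by simpa using e⟩
    · exact ⟨b, by rw [map_add, map_add, ra, hb, e]; decide⟩
  have fixd : ∀ m, α (m + m) = m + m → r m 2 = 0 := fun m h =>
    (by decide : ∀ a : A0, U0 a = a → a 2 = 0) _ ((ra m).symm.trans (lbd _ _ ((map_add α _ _).symm.trans h)))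
  obtain ⟨m1, h1⟩ := hW _ h0
  have c2 := fixd m1 (by rw [← h1]; simp only [map_add, aa, ax]; abel)
  have c1 : r m1 1 ≠ 0 := fun e => hn b0 (h1 ▸ dP m1 ⟨e, c2⟩)
  have Sa : ∀ t, r t 2 = 0 → D (α t + t) := fun t h => by
    obtain ⟨m2, h3⟩ := hW (α t + t) (by rw [map_add, ra]; revert h; generalize r t = a; revert a; decide)
    have c3 := fixd m2 (by rw [← h3]; simp only [map_add, aa]; abel)
    by_cases c4 : r m2 1 = 0
    · exact h3 ▸ dP m2 ⟨c4, c3⟩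
    · refine absurd ?_ (hn (b0 + t))
      rw [show α (b0 + t) + (b0 + t) + x = (α b0 + b0 + x) + (α t + t) by rw [map_add]; abel, h1, h3,
        show m1 + m1 + (m2 + m2) = (m1 + m2) + (m1 + m2) by abel]
      refine dP _ ?_
      rw [map_add]
      exact ⟨(by decide : ∀ a b : ZMod 2, a ≠ 0 → ¬ b = 0 → a + b = 0) _ _ c1 c4, by rw [Pi.add_apply, c2, c3, add_zero]⟩
  have Dg : ∀ m, D m → D (γ m) := fun m h => by
    rw [D0] at h ⊢
    rcases h with rfl | rfl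
    exacts [Or.inl (map_zero γ), Or.inr pg]
  have Sb : ∀ t, r t 1 = 0 → D (β t + t) := fun t h => by
    obtain ⟨t, rfl⟩ := sg t
    rw [← ga, ← map_add]
    exact Dg _ (Sa t (by rwa [rg] at h))
  have Sd : ∀ t, r t 1 = r t 2 → D (δ t + t) := fun t h => by
    obtain ⟨t, rfl⟩ := sg t
    rw [← gb, ← map_add]
    exact Dg _ (Sb t (by rw [rg] at h; revert h; generalize r t = a; revert a; decide))
  have NN : ∀ φ ψ : M →+ M, (∀ m, φ (ψ m) = ψ (φ m)) → φ (p + p) = p + p → ψ (p + p) = p + p → ∀ t1 t2, D (φ t1 + t1) →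
      D (ψ t2 + t2) → φ (ψ (t1 + t2) + (t1 + t2)) + (ψ (t1 + t2) + (t1 + t2)) = 0 := fun φ ψ c h h' t1 t2 d1 d2 => by
    have k : ∀ (χ : M →+ M) m, χ (p + p) = p + p → D m → χ m + m = 0 := fun χ m h d => by
      rcases (D0 _).1 d with rfl | rfl
      exacts [by simp, by rw [h, four]]
    have k1 := k ψ _ h' d1
    have k2 := k φ _ h d2
    simp only [map_add, c] at k1 k2 ⊢
    rw [← add_zero (0 : M)]
    nth_rewrite 1 [← k1]
    rw [← k2]
    abel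
  have Nab : ∀ m, α (β m + m) + (β m + m) = 0 ∧ β (α m + m) + (α m + m) = 0 := fun m => by
    obtain ⟨t, ht⟩ := surj ![0, r m 1, 0]
    have d1 := Sa t (by rw [ht]; rfl)
    have d2 := Sb (m - t) (by rw [map_sub, ht]; simp)
    exact ⟨by simpa using NN α β (fun m => (ba m).symm) pa pb _ _ d1 d2, by simpa using NN β α ba pb pa _ _ d2 d1⟩
  have Nad : ∀ m, α (δ m + m) + (δ m + m) = 0 := fun m => by
    obtain ⟨t, ht⟩ := surj ![0, r m 1 + r m 2, 0]
    simpa using NN α δ (fun m => (da m).symm) pa pd _ _ (Sa t (by rw [ht]; rfl)) (Sd (m - t) (by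
      rw [map_sub, ht]; generalize r m = a; revert a; decide))
  have hx : x = m1 + m1 - (α b0 + b0) := by rw [← h1]; abel
  have k0 : ∀ a : A0, a 1 ≠ 0 → a 2 = 0 → V0 a + a = e1 ∧ U0 (G0 a) + G0 a = e1 ∧ U0 (G0 (G0 a)) + G0 (G0 a) = e1 := by
    decide
  obtain ⟨k1, k2, k3⟩ := k0 _ c1 c2
  have l1 := NW β m1 (by rw [rb, k1])
  have l2 := NW α (γ m1) (by rw [ra, rg, k2])
  have l3 := NW α (γ (γ m1)) (by rw [ra, rg, rg, k3])
  have l4 : β x + x = p + p := by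
    rw [← l1, ← sub_zero (_ + (m1 + m1)), ← (Nab b0).2, hx, map_sub]; abel
  have l5 : α (γ x) + γ x = p + p := by
    rw [← l2, ← sub_zero (_ + (γ m1 + γ m1)), ← (Nab (γ b0)).1, hx]
    simp only [map_sub, map_add, ga]; abel
  have l6 : α (γ (γ x)) + γ (γ x) = p + p := by
    rw [← l3, ← sub_zero (_ + (γ (γ m1) + γ (γ m1))), ← Nad (γ (γ b0)), hx]
    simp only [map_sub, map_add, ga, gb]; abel
  rw [map_neg, ← neg_add, l6, map_add, map_add, ba, ba, bb, ax, ← ga, ax,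
    show x + α (γ x) + β x + γ x = (β x + x) + (α (γ x) + γ x) by abel, l4, l5, four, neg_eq_zero] at id
  exact absurd (hp.symm.trans ((h2 p).2 id)) (by decide)

open Subgroup Cfsg.Lib.Core Cfsg.Lib.Amalg Cfsg.Lib.BG1 Cfsg.Lib.BS

def P1 : AddSubgroup A0 where
  carrier := {a | a 1 = 0 ∧ a 2 = 0}
  zero_mem' := ⟨rfl, rfl⟩
  add_mem' := fun {a b} ha hb => ⟨by rw [Pi.add_apply, ha.1, hb.1, add_zero], by rw [Pi.add_apply, ha.2, hb.2, add_zero]⟩
  neg_mem' := fun {a} ha => ⟨by rw [Pi.neg_apply, ha.1, neg_zero], by rw [Pi.neg_apply, ha.2, neg_zero]⟩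

def P2 : AddSubgroup A0 where
  carrier := {a | a 2 = 0}
  zero_mem' := rfl
  add_mem' := fun {a b} ha hb => show a 2 + b 2 = 0 by rw [show a 2 = 0 from ha, show b 2 = 0 from hb, add_zero]
  neg_mem' := fun {a} ha => show -a 2 = 0 by rw [show a 2 = 0 from ha, neg_zero]

theorem card_P1 : Nat.card P1 = 2 :=
  (Nat.card_eq_fintype_card (α := {a : A0 // a 1 = 0 ∧ a 2 = 0})).trans (by decide)

theorem card_P2 : Nat.card P2 = 4 :=
  (Nat.card_eq_fintype_card (α := {a : A0 // a 2 = 0})).trans (by decide)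

namespace Tr

variable {G : Type*} [Group G] [Finite G] {Q K N : Subgroup G} [hQn : Q.Normal] [hK : K.Normal] {u g : G} {r : G → A0}
  (t : Tr Q K N u g r)
include t

theorem one : r 1 = 0 := by simpa using t.add 1 (one_mem K) 1 (one_mem K)

theorem inv {x : G} (hx : x ∈ K) : r x⁻¹ = r x := by
  have := t.add x hx _ (inv_mem hx)
  rw [mul_inv_cancel, t.one] at this
  exact (by decide : ∀ a b : A0, 0 = a + b → b = a) _ _ this

theorem ggg : g * g * g = 1 := by rw [← pow_three', ← t.g3, pow_orderOf_eq_one]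

theorem ru' : ∀ m ∈ K, r (u⁻¹ * m * u) = U0 (r m) := fun m hm => by
  have := t.ru (u⁻¹ * m * u) (by simpa using hK.conj_mem m hm u⁻¹)
  rw [show u * (u⁻¹ * m * u) * u⁻¹ = m by group] at this
  rw [this, (by decide : ∀ a, U0 (U0 a) = a)]

theorem rv : ∀ m ∈ K, r (g * u * g⁻¹ * m * (g * u * g⁻¹)⁻¹) = V0 (r m) := fun m hm => by
  have a1 := hK.conj_mem m hm g
  have a2 := hK.conj_mem _ a1 g
  rw [V0, ← t.rg m hm, ← t.rg _ a1, ← t.ru _ a2, ← t.rg _ (hK.conj_mem _ a2 u)]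
  congr 1
  calc _ = g * (u * (g⁻¹ * m * g) * u⁻¹) * g⁻¹ := by group
    _ = g * (u * (g⁻¹ * (g * g * g) * m * (g * g * g)⁻¹ * g) * u⁻¹) * g⁻¹ := by rw [t.ggg]; group
    _ = _ := by group

theorem eq_iff {x y : G} (hx : x ∈ K) (hy : y ∈ K) : r x = r y ↔ x⁻¹ * y ∈ N := by
  rw [← t.ker _ (mul_mem (inv_mem hx) hy), t.add _ (inv_mem hx) _ hy, t.inv hx]
  exact (by decide : ∀ a b : A0, a = b ↔ a + b = 0) _ _

theorem vv : g * u * g⁻¹ * (g * u * g⁻¹) = g * (u * u) * g⁻¹ := by group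

theorem zz : u * (g * u * g⁻¹) * (u * (g * u * g⁻¹)) = (g * (g * (u * u) * g⁻¹) * g⁻¹)⁻¹ := by
  rw [eq_inv_of_mul_eq_one_left t.prod]; group

theorem sq (hx : u * u ∈ K) : r (u * u) ∈ P1 := by
  have a1 := hK.conj_mem _ hx g
  have a2 := hK.conj_mem _ a1 g
  have a3 := ident r t.add U0 V0 t.ru t.ru' t.rv hx (t.vv ▸ a1) (t.zz ▸ inv_mem a2)
  have a4 := t.ru _ hx
  rw [t.zz, t.vv, t.inv a2, t.rg _ a1, t.rg _ hx] at a3
  rw [show u * (u * u) * u⁻¹ = u * u by group] at a4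
  show r (u * u) 1 = 0 ∧ r (u * u) 2 = 0
  revert a3 a4
  generalize r (u * u) = a
  revert a
  decide

def hom : K →* Multiplicative A0 :=
  MonoidHom.mk' (fun x => .ofAdd (r x)) fun a b => congrArg Multiplicative.ofAdd (t.add a a.2 b b.2)

def pre (P : AddSubgroup A0) : Subgroup G := (P.toSubgroup.comap t.hom).map K.subtype

theorem mem_pre {P : AddSubgroup A0} {m : G} : m ∈ t.pre P ↔ m ∈ K ∧ r m ∈ P :=
  ⟨by rintro ⟨m, hm, rfl⟩; exact ⟨m.2, hm⟩, fun h => ⟨⟨m, h.1⟩, h.2, rfl⟩⟩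

theorem card_pre (h : N ≤ K) (P : AddSubgroup A0) : Nat.card (t.pre P) = Nat.card P * Nat.card N := by
  rw [pre, card_map_of_injective K.subtype_injective, Core.card_comap_of_surjective (fun a => by
    obtain ⟨x, hx, e⟩ := t.surj a.toAdd
    exact ⟨⟨x, hx⟩, congrArg Multiplicative.ofAdd e⟩), show t.hom.ker = N.subgroupOf K from
      Subgroup.ext fun x => t.ker x x.2, Nat.card_congr (subgroupOfEquivOfLe h).toEquiv]
  rfl

theorem gen {C : Subgroup G} (h : N ≤ C) {p s s' : G} (hp : p ∈ C ⊓ K) (hs : s ∈ C ⊓ K) (hs' : s' ∈ C ⊓ K)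
    (r1 : r p = e1) (r2 : r s = ![0, 1, 0]) (r3 : r s' = ![0, 0, 1]) : K ≤ C := fun m hm => by
  have a1 : ∀ a b, (∃ x ∈ C ⊓ K, r x = a) → (∃ x ∈ C ⊓ K, r x = b) → ∃ x ∈ C ⊓ K, r x = a + b := by
    rintro _ _ ⟨x, hx, rfl⟩ ⟨y, hy, rfl⟩
    exact ⟨x * y, mul_mem hx hy, t.add _ hx.2 _ hy.2⟩
  have a2 : ∀ (c : ZMod 2) (a : A0), (∃ x ∈ C ⊓ K, r x = a) → ∃ x ∈ C ⊓ K, r x = c • a := fun c a h => by
    rcases (by decide : ∀ c : ZMod 2, c = 0 ∨ c = 1) c with rfl | rfl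
    · exact ⟨1, one_mem _, by rw [t.one, zero_smul]⟩
    · rwa [one_smul]
  obtain ⟨x, hx, e⟩ := a1 _ _ (a1 _ _ (a2 (r m 0) _ ⟨p, hp, r1⟩) (a2 (r m 1) _ ⟨s, hs, r2⟩)) (a2 (r m 2) _ ⟨s', hs', r3⟩)
  rw [(by decide : ∀ a : A0, a 0 • e1 + a 1 • ![0, 1, 0] + a 2 • ![0, 0, 1] = a)] at e
  simpa using mul_mem hx.1 (h ((t.eq_iff hx.2 hm).1 e))

end Tr

end Cfsg.Lib.SR4
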